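import Mathlib
import Cfsg.Agent.Lib.Helper3.QSim.HDefs

/-!
# QSIM (S5981), cut of [HMONO]: package [HORTH]

An orthogonal `K`-basis of a `σ`-hermitian-type space `(W, β)`: strong induction on the `K`-rank
of a `K`-submodule `S` on which `β` is non-degenerate; a vector `v ∈ S` with `β v (a₀ • v) ≠ 0`
is split off using the surjectivity of `d ↦ (b ↦ β v ((d * b) • v)) : K → Dual F K`.
(Second, independent seat.)
-/

set_option autoImplicit false

namespace Cfsg.Agent.Lib.Helper59.QSim

open Cfsg.Agent.Lib.Helper58.QSim Cfsg.Agent.Lib.Helper3.QSim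

universe u

/-- the induction behind [HORTH] -/
theorem horth_core {F K W : Type u} [Field F] [Field K] [Finite K] [Algebra F K]
    [AddCommGroup W] [Module F W] [Module K W] [IsScalarTower F K W] [Module.Finite K W]
    (σ : K ≃ₐ[F] K) (β : LinearMap.BilinForm F W) (h2 : (2 : F) ≠ 0) (hσσ : ∀ a, σ (σ a) = a)
    (hsymm : ∀ u v, β u v = β v u)
    (hadj : ∀ (a : K) (u v : W), β (a • u) v = β u (σ a • v)) :
    ∀ (d : ℕ) (S : Submodule K W), Module.finrank K S = d →
      (∀ u ∈ S, u ≠ 0 → ∃ v ∈ S, β u v ≠ 0) →
      ∃ (m : ℕ) (v : Fin m → W), LinearIndependent K v ∧ Submodule.span K (Set.range v) = S ∧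
        ∀ j l : Fin m, j ≠ l → ∀ a b : K, β (a • v j) (b • v l) = 0 := by
  intro d
  induction d using Nat.strong_induction_on with
  | _ d ih =>
    intro S hS hnd
    by_cases hbot : S = ⊥
    · refine ⟨0, Fin.elim0, linearIndependent_empty_type, ?_, fun j => j.elim0⟩
      rw [hbot]
      simp
    · -- a vector `v` with `β v (a₀ • v) ≠ 0`
      have hex : ∃ v ∈ S, ∃ a₀ : K, β v (a₀ • v) ≠ 0 := by
        by_contra hcon
        have hzero : ∀ v ∈ S, β v v = 0 := by
          intro v hv
          by_contra h
          exact hcon ⟨v, hv, 1, by rwa [one_smul]⟩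
        have hall : ∀ v ∈ S, ∀ w ∈ S, β v w = 0 := by
          intro v hv w hw
          have h1 := hzero (v + w) (S.add_mem hv hw)
          have e : β (v + w) (v + w) = β v v + β v w + (β w v + β w w) := by
            rw [map_add, map_add, LinearMap.add_apply, LinearMap.add_apply]
            abel
          rw [e, hzero v hv, hzero w hw, hsymm w v] at h1
          have h3 : (2 : F) * β v w = 0 := by linear_combination h1
          exact (mul_eq_zero.mp h3).resolve_left h2
        obtain ⟨u, hu, hu0⟩ := (Submodule.ne_bot_iff S).mp hbot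
        obtain ⟨w, hw, hne⟩ := hnd u hu hu0
        exact hne (hall u hu w hw)
      obtain ⟨v, hvS, a₀, hva₀⟩ := hex
      -- the orthogonal complement of `K v`
      obtain ⟨P, hP⟩ : ∃ P : Submodule K W, ∀ x, x ∈ P ↔ ∀ a : K, β x (a • v) = 0 := by
        refine ⟨{ carrier := {x | ∀ a : K, β x (a • v) = 0}
                  add_mem' := ?_
                  zero_mem' := ?_
                  smul_mem' := ?_ }, fun x => Iff.rfl⟩
        · intro x y hx hy a
          rw [map_add, LinearMap.add_apply, hx a, hy a, add_zero]
        · intro a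
          rw [map_zero, LinearMap.zero_apply]
        · intro c x hx a
          have h := hadj c x (a • v)
          rw [smul_smul] at h
          change β (c • x) (a • v) = 0
          rw [h]
          exact hx (σ c * a)
      -- the pairing `K → Dual F K`
      obtain ⟨Φ, hΦ⟩ : ∃ Φ : K →ₗ[F] K →ₗ[F] F, ∀ d b, Φ d b = β v ((d * b) • v) := by
        refine ⟨LinearMap.mk₂ F (fun d b => β v ((d * b) • v)) ?_ ?_ ?_ ?_, fun d b => rfl⟩
        · intro d₁ d₂ b
          rw [add_mul, add_smul, map_add]
        · intro c d b
          rw [smul_mul_assoc, smul_assoc, map_smul]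
        · intro d b₁ b₂
          rw [mul_add, add_smul, map_add]
        · intro c d b
          rw [mul_smul_comm, smul_assoc, map_smul]
      have hΦinj : Function.Injective Φ := by
        rw [injective_iff_map_eq_zero]
        intro d hd
        by_contra hd0
        apply hva₀
        have h := hΦ d (d⁻¹ * a₀)
        rw [hd, LinearMap.zero_apply, ← mul_assoc, mul_inv_cancel₀ hd0, one_mul] at h
        exact h.symm
      have hΦsurj : Function.Surjective Φ :=
        (LinearMap.injective_iff_surjective_of_finrank_eq_finrank
          (Subspace.dual_finrank_eq (K := F) (V := K)).symm).mp hΦinj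
      -- decomposition
      have hdec : ∀ s : W, ∃ c : K, s - c • v ∈ P := by
        intro s
        obtain ⟨φ, hφ⟩ : ∃ φ : K →ₗ[F] F, ∀ b, φ b = β s (b • v) :=
          ⟨(β s).comp ((LinearMap.toSpanSingleton K W v).restrictScalars F), fun b => rfl⟩
        obtain ⟨d', hd'⟩ := hΦsurj φ
        refine ⟨σ d', ?_⟩
        rw [hP]
        intro a
        have h1 := hadj (σ d') v (a • v)
        rw [hσσ, smul_smul] at h1
        have h3 : Φ d' a = φ a := by rw [hd']
        rw [hΦ, hφ] at h3
        rw [map_sub, LinearMap.sub_apply, h1, h3, sub_self]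
      -- the smaller submodule
      obtain ⟨S', hS'⟩ : ∃ S' : Submodule K W, S' = S ⊓ P := ⟨_, rfl⟩
      have hvP : v ∉ P := by
        intro h
        exact hva₀ ((hP v).mp h a₀)
      have hlt : S' < S := by
        refine lt_of_le_of_ne (by rw [hS']; exact inf_le_left) ?_
        intro h
        rw [← h, hS'] at hvS
        exact hvP hvS.2
      have hfin : Module.finrank K S' < d := by
        rw [← hS]
        exact Submodule.finrank_lt_finrank_of_lt hlt
      have hnd' : ∀ u ∈ S', u ≠ 0 → ∃ w ∈ S', β u w ≠ 0 := by
        intro u hu hu0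
        rw [hS'] at hu
        obtain ⟨w, hw, hne⟩ := hnd u hu.1 hu0
        obtain ⟨c, hc⟩ := hdec w
        refine ⟨w - c • v, ?_, ?_⟩
        · rw [hS']
          exact ⟨S.sub_mem hw (S.smul_mem c hvS), hc⟩
        · rw [map_sub, (hP u).mp hu.2 c, sub_zero]
          exact hne
      obtain ⟨m, v', hli, hsp, horth⟩ := ih (Module.finrank K S') hfin S' rfl hnd'
      have hv'P : ∀ j, v' j ∈ P := by
        intro j
        have h : v' j ∈ S' := by
          rw [← hsp]; exact Submodule.subset_span (Set.mem_range_self j)
        rw [hS'] at h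
        exact h.2
      refine ⟨m + 1, Fin.cons v v', ?_, ?_, ?_⟩
      · rw [linearIndependent_finCons]
        refine ⟨hli, ?_⟩
        rw [hsp, hS']
        exact fun h => hvP h.2
      · rw [Fin.range_cons]
        apply le_antisymm
        · rw [Submodule.span_le]
          intro x hx
          rcases Set.mem_insert_iff.mp hx with h | h
          · rw [h]; exact hvS
          · have h' : x ∈ S' := by
              rw [← hsp]; exact Submodule.subset_span h
            exact hlt.le h'
        · intro s hs
          obtain ⟨c, hc⟩ := hdec s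
          rw [Submodule.mem_span_insert]
          refine ⟨c, s - c • v, ?_, by abel⟩
          rw [hsp, hS']
          exact ⟨S.sub_mem hs (S.smul_mem c hvS), hc⟩
      · intro j l hjl a b
        induction j using Fin.cases with
        | zero =>
          induction l using Fin.cases with
          | zero => exact absurd rfl hjl
          | succ l' =>
            rw [Fin.cons_zero, Fin.cons_succ, hsymm]
            exact (hP _).mp (P.smul_mem b (hv'P l')) a
        | succ j' =>
          induction l using Fin.cases with
          | zero =>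
            rw [Fin.cons_zero, Fin.cons_succ]
            exact (hP _).mp (P.smul_mem a (hv'P j')) b
          | succ l' =>
            rw [Fin.cons_succ, Fin.cons_succ]
            exact horth j' l' (fun h => hjl (by rw [h])) a b

/-- [HORTH] -/
theorem pkgHOrth : PkgHOrth.{u} := by
  intro F K W _ _ _ _ _ _ _ _ _ _ σ β k hodd hσσ hsymm hnd hadj hk
  have h2 : (2 : F) ≠ 0 := by
    intro h
    have h2' : ((2 : ℕ) : F) = 0 := by exact_mod_cast h
    have hch : ringChar F = 2 := CharP.ringChar_of_prime_eq_zero Nat.prime_two h2'
    have := FiniteField.even_card_of_char_two hch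
    rcases hodd with ⟨k', hk'⟩
    omega
  obtain ⟨m, v, hli, hsp, horth⟩ := horth_core σ β h2 hσσ hsymm hadj
    (Module.finrank K (⊤ : Submodule K W)) ⊤ rfl
    (fun u _ hu0 => by
      obtain ⟨w, hw⟩ := hnd u hu0
      exact ⟨w, Submodule.mem_top, hw⟩)
  obtain ⟨b, hb⟩ : ∃ b : Module.Basis (Fin m) K W, ∀ j, b j = v j :=
    ⟨Module.Basis.mk hli (by rw [hsp]), fun j => by rw [Module.Basis.mk_apply]⟩
  have hm : m = k := by
    have h := Module.finrank_eq_card_basis b
    rw [Fintype.card_fin, hk] at h
    exact h.symm
  subst hm
  refine ⟨b, fun j l hjl a c => ?_⟩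
  rw [hb, hb]
  exact horth j l hjl a c

end Cfsg.Agent.Lib.Helper59.QSim
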